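import Cfsg.Agent.Lib.Local.FS.Layer.Residual
import Cfsg.Agent.Lib.Local.FS.Meet.Normal

/-!
The layer of a saturated fusion system exists.
-/

set_option autoImplicit false

namespace Cfsg.Agent.Local.FS.Layer

open Cfsg Cfsg.FusionSystem Cfsg.Agent.Fusion Cfsg.Agent.Local.FS

universe u

variable {Ω : Type u} [Group Ω]

/-- A subnormal system equal to its `p'`-residual lies in each normal subsystem whose base contains its base. -/
theorem sub_of_subnormal : ∀ {U S : Subgroup Ω} {C : FusionSystem U} {F : FusionSystem S} {p : ℕ},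
    C.IsSubnormalIn F p → ∀ [Fact p.Prime] [Finite S], IsPGroup p S → F.IsSaturated p →
      C.IsPPrimeResidual p C → ∀ {R : Subgroup Ω} {D : FusionSystem R}, D.IsNormalIn F p → U ≤ R →
        C.IsSubsystemOf D := by
  intro U S C F p h
  induction h with
  | refl F p =>
    intro _ _ hS hF hC R D hD hUR
    obtain rfl := le_antisymm hD.1.2.2.2.1.1 hUR
    exact hC.2.2 D hD.1.1 (prime_of_invariant hF hD.1.2.2)
  | step h1 h2 ih =>
    intro _ _ hS hF hC R D hD hUR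
    have c : Meet.Ctx _ _ _ _ := ⟨hS, hF, h2, hD⟩
    have hU₁ := h2.1.2.2.2.1.1
    haveI := finite_of_le hU₁
    have hle := ih (hS.to_le hU₁) h2.1.1 hC c.sys_normal₁ (le_inf (le_of_sub (subnormal_sub h1)) hUR)
    exact fun P φ hφ => c.sys_normal₂.1.2.2.1 P (hle P hφ)

variable {S : Subgroup Ω} [Finite S] {p : ℕ} [Fact p.Prime] {F : FusionSystem S}

theorem component_sub {U R : Subgroup Ω} {C : FusionSystem U} {D : FusionSystem R} (hS : IsPGroup p S)
    (hF : F.IsSaturated p) (hC : C.IsComponentIn F p) (hD : D.IsNormalIn F p) (hUR : U ≤ R) :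
    C.IsSubsystemOf D := by
  have hUS := le_of_sub (subnormal_sub hC.1)
  haveI := finite_of_le hUS
  exact sub_of_subnormal hC.1 hS hF (quasisimple_isPPrimeResidual (hS.to_le hUS) hC.2) hD hUR

theorem exists_layer (hS : IsPGroup p S) (hF : F.IsSaturated p) :
    ∃ (T : Subgroup Ω) (E : FusionSystem T), E.IsLayerOf F p := by
  classical
  let good : ∀ {T : Subgroup Ω}, FusionSystem T → Prop := fun {T} X => X.IsNormalIn F p ∧
    ∀ (U : Subgroup Ω) (C : FusionSystem U), C.IsComponentIn F p → C.IsSubsystemOf X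
  let size : ∀ {T : Subgroup Ω}, FusionSystem T → ℕ := fun {T} X =>
    Nat.card (Σ P : Subgroup ↥T, ↥(X.autGroup (P.map T.subtype)))
  have hex : ∃ n, ∃ (T : Subgroup Ω) (X : FusionSystem T), good X ∧ Nat.card T = n :=
    ⟨_, S, F, ⟨normal_self hS hF, fun _ _ hC => subnormal_sub hC.1⟩, rfl⟩
  obtain ⟨T, X₀, hX₀, hcard⟩ := Nat.find_spec hex
  have hex₂ : ∃ m, ∃ X : FusionSystem T, good X ∧ size X = m := ⟨_, X₀, hX₀, rfl⟩
  obtain ⟨X, ⟨hX, hXc⟩, hsize⟩ := Nat.find_spec hex₂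
  refine ⟨T, X, hX, hXc, fun R D hD hDc => ?_⟩
  have c : Meet.Ctx F X D p := ⟨hS, hF, hX, hD⟩
  have hTS : T ≤ S := hX.1.2.2.2.1.1
  haveI := finite_of_le hTS
  have hMc : ∀ (U : Subgroup Ω) (C : FusionSystem U), C.IsComponentIn F p → C.IsSubsystemOf c.sys :=
    fun U C hC => component_sub hS hF hC c.sys_normal
      (le_inf (le_of_sub (hXc U C hC)) (le_of_sub (hDc U C hC)))
  have heq : T ⊓ R = T := by
    refine Subgroup.eq_of_le_of_card_ge inf_le_left ?_
    rw [hcard]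
    exact Nat.find_min' hex ⟨_, c.sys, ⟨c.sys_normal, hMc⟩, rfl⟩
  obtain ⟨M, ⟨hM, hMg⟩, hMX, hMD⟩ : ∃ M : FusionSystem T,
      good M ∧ M.IsSubsystemOf X ∧ M.IsSubsystemOf D :=
    Eq.rec (motive := fun V _ => ∃ M : FusionSystem V, good M ∧ M.IsSubsystemOf X ∧ M.IsSubsystemOf D)
      ⟨c.sys, ⟨c.sys_normal, hMc⟩, c.sys_normal₁.1.2.2.1, c.sys_normal₂.1.2.2.1⟩ heq
  haveI hfin : ∀ P : Subgroup ↥T, Finite (MulAut ↥(P.map T.subtype)) := fun P =>
    mulAut_finite_of_le ((Subgroup.map_subtype_le P).trans hTS)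
  have hle : ∀ P : Subgroup ↥T, M.autGroup (P.map T.subtype) ≤ X.autGroup (P.map T.subtype) := fun P =>
    autGroup_le_of_sub hMX (Subgroup.map_subtype_le P)
  let i : (Σ P : Subgroup ↥T, ↥(M.autGroup (P.map T.subtype))) →
      Σ P : Subgroup ↥T, ↥(X.autGroup (P.map T.subtype)) := fun x => ⟨x.1, ⟨x.2.1, hle _ x.2.2⟩⟩
  have hi : Function.Injective i := by
    rintro ⟨P, a, ha⟩ ⟨Q, b, hb⟩ h
    obtain ⟨rfl, h2⟩ := Sigma.mk.inj_iff.1 h
    obtain rfl : a = b := congrArg Subtype.val (eq_of_heq h2)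
    rfl
  have hbij : Function.Bijective i := (Nat.bijective_iff_injective_and_card i).2 ⟨hi,
    le_antisymm (Nat.card_le_card_of_injective i hi) (hsize.le.trans (Nat.find_min' hex₂ ⟨M, ⟨hM, hMg⟩, rfl⟩))⟩
  have hall : ∀ P : Subgroup ↥T, X.autGroup (P.map T.subtype) ≤ M.autGroup (P.map T.subtype) := by
    intro P a ha
    obtain ⟨⟨Q, b, hb⟩, he⟩ := hbij.2 ⟨P, a, ha⟩
    obtain ⟨rfl, h2⟩ := Sigma.mk.inj_iff.1 he
    obtain rfl : b = a := congrArg Subtype.val (eq_of_heq h2)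
    exact hb
  intro P φ hφ
  refine hMD P ((alperin (hS.to_le hTS) hX.1.1 (isClosedClass_map M) (fun Q hQ a ha => ?_) P _
    (map_of_mem hφ)).mem_hom fun x => (fn_coe φ x).symm)
  have hQT : Q ≤ T := by
    rcases hQ with rfl | hQ
    · exact le_rfl
    · exact hQ.1.1
  have h1 := hall (Q.subgroupOf T)
  rw [Subgroup.map_subgroupOf_eq_of_le hQT] at h1
  exact map_of_mem_autGroup hQT (h1 ha)

end Cfsg.Agent.Local.FS.Layer
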