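import Cfsg.Agent.Lib.Local.FS.ComponentCore
import Cfsg.Agent.Lib.Local.FS.PrimeResidualIsNormal
import Cfsg.Agent.Lib.Local.FS.LimitPrime
import Cfsg.Agent.Lib.Local.FS.PSolvDescentBase

/-!
A quasisimple fusion system is equal to its `p'`-residual.
-/

set_option autoImplicit false

namespace Cfsg.Agent.Local.FS.Layer

open Cfsg Cfsg.FusionSystem Cfsg.Agent.Fusion Cfsg.Agent.Local.FS

variable {Ω : Type*} [Group Ω] {S T : Subgroup Ω} {F : FusionSystem S} {P : Subgroup Ω} {p : ℕ}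
  [Finite S] [Fact p.Prime]

/-- A saturated system is normal in itself. -/
theorem normal_self (hS : IsPGroup p S) (hF : F.IsSaturated p) : F.IsNormalIn F p :=
  PSolv.normal_of_weakly (weaklyNormal_self hS hF) inf_le_left

theorem quasisimple_isPPrimeResidual (hS : IsPGroup p S) (hq : F.Quasisimple p) :
    F.IsPPrimeResidual p F := by
  obtain ⟨hF, -, hsim⟩ := hq
  obtain ⟨R, hRd⟩ : ∃ R, R = primeRes F p := ⟨_, rfl⟩
  have hR : F.IsPPrimeResidual p R := hRd ▸ isPPrimeResidual_primeRes hS hF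
  have hRn := primeResidual_isNormalIn hS (weaklyNormal_self hS hF) hR
  have hRsub : R.IsSubsystemOf F := hR.2.1.1
  refine ⟨hF, ⟨fun _ _ h => h, fun P _ => Subgroup.map_subtype_le _⟩, fun D hD hDi => ?_⟩
  suffices h : F.IsSubsystemOf R from fun P φ hφ => hR.2.2 D hD hDi P (h P hφ)
  have hZ := stronglyClosed_center F
  have hZR : R.StronglyClosed F.center := stronglyClosed_iff.2 ⟨hZ.1, fun P f hP hf =>
    (stronglyClosed_iff.1 hZ).2 P f hP (hf.of_sub hRsub)⟩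
  set θ := QuotientGroup.mk' ((F.center).subgroupOf S) with hθ
  have hker : ∀ s : S, θ s = 1 ↔ (s : Ω) ∈ F.center := fun s =>
    (QuotientGroup.eq_one_iff s).trans Subgroup.mem_subgroupOf
  have hsurj : Function.Surjective θ := QuotientGroup.mk'_surjective _
  set E := factorSys hZ θ hker hsurj
  have hE : F.IsFactorSystem F.center θ E := ⟨hZ.1, hker, MonoidHom.range_eq_top.2 hsurj,
    fun P' φ' => fmap_iff.trans (and_iff_right le_top).symm⟩
  set E' := factorSys hZR θ hker hsurj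
  have hE' : R.IsFactorSystem F.center θ E' := ⟨hZR.1, hker, MonoidHom.range_eq_top.2 hsurj,
    fun P' φ' => fmap_iff.trans (and_iff_right le_top).symm⟩
  obtain ⟨hEs, hne, hnorm⟩ := hsim E hE
  haveI : Finite (⊤ : Subgroup (S ⧸ (F.center).subgroupOf S)) :=
    Finite.of_injective _ Subtype.val_injective
  have hS' : IsPGroup p (⊤ : Subgroup (S ⧸ (F.center).subgroupOf S)) := fac_isPGroup hE hS
  have hlift : ∀ {P' : Subgroup (S ⧸ (F.center).subgroupOf S)} {x : Ω}, x ∈ preimageAlong θ P' →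
      ue θ (ve θ (ue θ x)) = ue θ x ∧ ve θ (ue θ x) ∈ preimageAlong θ P' := fun {P' x} hx => by
    obtain ⟨hxS, hx'⟩ := fac_mem_pre.1 hx
    have h1 := fac_ue_ve hE (fac_ue_mem hE hxS)
    exact ⟨h1, fac_mem_pre.2 ⟨ve_mem, h1.symm ▸ hx'⟩⟩
  have hsub : E'.IsSubsystemOf E := fun P' φ hφ => by
    obtain ⟨hP', f, hf, hff⟩ := fac_lift hE' hZR (map_of_mem hφ)
    refine ((fac_induced hE hZ hP' (hf.of_sub hRsub)).congr fun a ha => ?_).mem_hom
      fun x => (fn_coe φ x).symm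
    obtain ⟨x, hx, rfl⟩ := fac_exists_pre hE hP' ha
    show ue θ (f (ve θ (ue θ x))) = fn φ (ue θ x)
    have hx' : x ∈ preimageAlong θ P' := hx
    rw [hff _ (hlift hx').2, (hlift hx').1]
  have hinv := (isInvariantIn_iff hS hF hRsub hRn.1.2.2.2.1).1 hRn.1.2.2
  have hstrong : StrongInv E' E := by
    intro P' Q' f g hPQ hQ hf hfQ hg
    obtain ⟨hP', f₀, hf₀, hff⟩ := fac_lift hE' hZR hf
    obtain ⟨hQ', g₀, hg₀, hgg⟩ := fac_lift hE hZ hg
    have hpre : preimageAlong θ P' ≤ preimageAlong θ Q' := fun x hx =>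
      fac_mem_pre.2 ⟨(fac_mem_pre.1 hx).1, hPQ (fac_mem_pre.1 hx).2⟩
    have hmem : ∀ x ∈ preimageAlong θ P', f₀ x ∈ preimageAlong θ Q' := fun x hx =>
      fac_mem_pre.2 ⟨hf₀.mem hx, hff x hx ▸ hfQ _ (fac_mem_pre.1 hx).2⟩
    obtain ⟨h₀, hh₀, hh⟩ := hinv _ _ f₀ g₀ hpre (preimage_le Q') hf₀ hmem hg₀
    have him : preimageAlong θ (im P' g) = im (preimageAlong θ P') g₀ :=
      fac_im hE hZ (hg₀.restrict hpre) (hg.restrict hPQ) fun x hx => hgg x (hpre hx)
    rw [← him] at hh₀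
    refine ⟨_, fac_induced hE' hZR le_top hh₀, fun a ha => ?_⟩
    obtain ⟨x, hx, rfl⟩ := fac_exists_pre hE hP' ha
    have hx' : x ∈ preimageAlong θ P' := hx
    have hgx : g₀ x ∈ preimageAlong θ (im P' g) := him.ge (mem_im_of_mem hx')
    show ue θ (h₀ (ve θ (g (ue θ x)))) = g (f (ue θ x))
    rw [← hgg x (hpre hx'), fac_congr hE' hZR hh₀ (fac_le_pre hE') (hlift hgx).2 hgx (hlift hgx).1,
      hh x hx', hgg _ (hmem x hx'), hff x hx']
  have hcl : E.StronglyClosed (⊤ : Subgroup (S ⧸ (F.center).subgroupOf S)) :=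
    stronglyClosed_iff.2 ⟨le_rfl, fun _ _ _ _ _ _ => Subgroup.mem_top _⟩
  have hE'n : E'.IsNormalIn E p := PSolv.normal_of_weakly
    ⟨fac_saturated hS hR.1 hZR hE', hEs, (isInvariantIn_iff hS' hEs hsub hcl).2 hstrong⟩ inf_le_left
  obtain h0 | ⟨-, heq⟩ := hnorm ⊤ E' hE'n
  · exact absurd h0 hne
  intro P φ hφ
  obtain ⟨g, hg, hgf, -⟩ := centExt_center (F := F) le_rfl P _ (map_of_mem hφ)
  obtain ⟨A, hAd⟩ : ∃ A, A = P ⊔ F.center := ⟨_, rfl⟩
  rw [← hAd] at hg
  have hAS : A ≤ S := hg.le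
  have hZA : F.center ≤ A := hAd ▸ le_sup_right
  suffices hgR : Map R A g from ((hgR.restrict (hAd ▸ le_sup_left)).congr hgf).mem_hom fun x => (fn_coe φ x).symm
  have hpreA : preimageAlong θ (imageAlong θ A) = A := by
    rw [fac_pre_up hE hAS, sup_eq_left.2 hZA]
  have hg' := fac_induced hE hZ (le_top : imageAlong θ A ≤ ⊤) (hpreA.symm ▸ hg)
  obtain ⟨ψ, hψ, hψe⟩ := hg'
  rw [← heq] at hψ
  have hg'' : Map E' (imageAlong θ A) (fun a => ue θ (g (ve θ a))) := ⟨ψ, hψ, hψe⟩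
  obtain ⟨-, r, hr, hrr⟩ := fac_lift hE' hZR hg''
  rw [hpreA] at hr hrr
  have hrF := hr.of_sub hRsub
  have hd : ∀ x ∈ A, (r x)⁻¹ * g x ∈ F.center := fun x hx => by
    have hx' : x ∈ preimageAlong θ (imageAlong θ A) := hpreA.ge hx
    refine (fac_ue_eq_one hE (S.mul_mem (S.inv_mem (hr.mem hx)) (hg.mem hx))).1 ?_
    rw [fac_ue_diff (hr.mem hx) (hg.mem hx), inv_mul_eq_one, hrr x hx]
    exact fac_congr hE hZ hg hZA (hpreA.le (hlift hx').2) hx (hlift hx').1
  have hrz : ∀ z ∈ F.center, r z = z := fun z hz => center_fixed F hz hrF (hZA hz)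
  have hsplit : ∀ x ∈ A, g x = r (x * ((r x)⁻¹ * g x)) := fun x hx => by
    rw [hr.map_mul hx (hZA (hd x hx)), hrz _ (hd x hx), mul_inv_cancel_left]
  obtain ⟨k, hk, hkr, -, -⟩ := hrF.exists_inv
  have hmem : ∀ x ∈ A, g x ∈ im A r := fun x hx => by
    rw [hsplit x hx]
    exact mem_im_of_mem (A.mul_mem hx (hZA (hd x hx)))
  have hκe : ∀ x ∈ A, k (g x) = x * ((r x)⁻¹ * g x) := fun x hx => by
    conv_lhs => rw [hsplit x hx]
    exact hkr _ (A.mul_mem hx (hZA (hd x hx)))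
  haveI := finite_of_le hAS
  haveI := mulAut_finite_of_le hAS
  have hm : Map F A (k ∘ g) := hg.comp hk hmem
  obtain ⟨κ, hκ, hκg⟩ := exists_aut hm (Subgroup.eq_of_le_of_card_ge (im_le_iff.2 fun x hx => by
    show k (g x) ∈ A
    rw [hκe x hx]
    exact A.mul_mem hx (hZA (hd x hx))) hm.card_im.ge)
  obtain ⟨j, hj⟩ := exists_pow_eq_one_of_stabilizes (hS.to_le hAS) (α := κ)
    (fun i => if i = 0 then ⊥ else if i = 1 then F.center else A) 2 rfl (by simp)
    (monotone_nat_of_le_succ fun i => by rcases i with _ | _ | i <;> simp [hZA])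
    (fun i hi x hx hxC => by
      rcases i with _ | _ | i
      · simp only [zero_add, one_ne_zero, if_false, if_true] at hxC ⊢
        rw [Subgroup.mem_bot, hκg x hx]
        show x⁻¹ * k (g x) = 1
        rw [hκe x hx, hrz x hxC, center_fixed F hxC hg hx, inv_mul_cancel, mul_one, inv_mul_cancel]
      · simp only [zero_add, one_ne_zero, if_false, if_true] at hxC ⊢
        rw [hκg x hx]
        show x⁻¹ * k (g x) ∈ F.center
        rw [hκe x hx, inv_mul_cancel_left]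
        exact hd x hx
      · omega)
  obtain ⟨i, -, hi⟩ := (Nat.dvd_prime_pow Fact.out).1 (orderOf_dvd_of_pow_eq_one hj)
  have hκR : κ ∈ R.autGroup A := hR.2.1.2 A hAS
    ⟨⟨κ, hκ⟩, Subgroup.subset_closure ⟨i, by rw [Subgroup.orderOf_mk, hi]⟩, rfl⟩
  refine ((map_of_mem_autGroup hAS hκR).comp hr fun x hx => av_mem κ hx).congr fun x hx => ?_
  show r (av κ x) = g x
  rw [hκg x hx, Function.comp_apply, hκe x hx, ← hsplit x hx]

end Cfsg.Agent.Local.FS.Layer
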